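import Cfsg.Agent.H844.K5.Base
import Cfsg.Agent.H684.Principal
import Cfsg.Agent.H684.RgdData
import Cfsg.Agent.H684.DefChar
import Cfsg.Agent.H686.TZ.PSL34
import Cfsg.Agent.Nodes.RGDTypeA
import Cfsg.Agent.UGT.ThEP.KFacts
import Cfsg.Agent.GH.Defs
import Cfsg.Agent.S0205

/-!
# S4874, `p = 2`: the row `L₃(4)` (helper333, task T17)
-/

set_option autoImplicit false
set_option linter.unusedSectionVars false

namespace Cfsg.Agent.H333.K5.L34

open Cfsg Subgroup
open Cfsg.Agent.H844.K5 Cfsg.Agent.H634 Cfsg.Agent.GH.Defs Cfsg.Agent.H684.ProdRigid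

universe u

section rank

variable {G : Type u} [Group G] [Finite G]

/-- a linear character -/
noncomputable def lin (μ : G →* ℂˣ) : IrrCharacter G :=
  ⟨fun g => (1 : ℂ) * μ g, CharactersDeep.ExtUnique.isIrr_mul_hom Blocks.Basic.isIrrCharacter_one μ⟩

omit [Finite G] in
theorem lin_apply (μ : G →* ℂˣ) (g : G) : (lin μ : G → ℂ) g = μ g := one_mul _

omit [Finite G] in
theorem charDegree_lin (μ : G →* ℂˣ) : charDegree (lin μ : G → ℂ) = 1 := by
  have h1 := Blocks.Basic.irr_one_eq_charDegree (lin μ).2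
  rw [lin_apply, map_one, Units.val_one] at h1
  exact_mod_cast h1.symm

/-- linear characters are independent on the 2-regular elements -/
theorem three_le_rank {B : Set (IrrCharacter G)} (hB : ∀ μ : G →* ℂˣ, lin μ ∈ B) (μ : G →* ℂˣ) (y : G)
    (hy : ¬ 2 ∣ orderOf y) (h1 : μ y ≠ 1) : 3 ≤ blockRank 2 B := by
  classical
  have := Fintype.ofFinite G
  set a : ℂ := ((μ y : ℂˣ) : ℂ) with ha
  have ha1 : a ≠ 1 := fun h => h1 (Units.ext (by rw [Units.val_one]; exact h))
  have ha0 : a ≠ 0 := (μ y).ne_zero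
  have ha2 : a ^ 2 ≠ 1 := by
    intro h2
    have h3 : (μ y) ^ 2 = 1 := Units.ext (by rw [Units.val_pow_eq_pow_val, Units.val_one]; exact h2)
    have h4 : orderOf (μ y) ∣ 2 := orderOf_dvd_of_pow_eq_one h3
    rcases (Nat.dvd_prime Nat.prime_two).1 h4 with h5 | h5
    · exact h1 (orderOf_eq_one_iff.1 h5)
    · exact hy (h5 ▸ orderOf_map_dvd μ y)
  have hreg : ∀ j : ℕ, IsPRegular 2 (y ^ j) := by
    intro j h
    exact hy (h.trans (orderOf_pow_dvd j))
  let v : Fin 3 → (G → ℂ) := fun i => pRegularPart 2 (lin (μ ^ (i : ℕ)) : G → ℂ)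
  have hv : ∀ (i : Fin 3) (j : ℕ), v i (y ^ j) = a ^ ((i : ℕ) * j) := by
    intro i j
    show pRegularPart 2 (lin (μ ^ (i : ℕ)) : G → ℂ) (y ^ j) = _
    unfold pRegularPart
    rw [if_pos (hreg j), lin_apply, MonoidHom.pow_apply, map_pow, Units.val_pow_eq_pow_val,
      Units.val_pow_eq_pow_val, ← pow_mul, mul_comm]
  have hli : LinearIndependent ℂ v := by
    rw [Fintype.linearIndependent_iff]
    intro c hc
    have e : ∀ j : ℕ, c 0 + c 1 * a ^ j + c 2 * a ^ (2 * j) = 0 := by
      intro j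
      have := congrFun hc (y ^ j)
      rw [Finset.sum_apply, Fin.sum_univ_three] at this
      simp only [Pi.smul_apply, smul_eq_mul, Pi.zero_apply] at this
      rw [hv, hv, hv] at this
      simpa using this
    have e0 := e 0
    have e1 := e 1
    have e2 := e 2
    norm_num at e0 e1 e2
    have f1 : c 1 + (a + 1) * c 2 = 0 := by
      have : (a - 1) * (c 1 + (a + 1) * c 2) = 0 := by linear_combination e1 - e0
      exact (mul_eq_zero.1 this).resolve_left (sub_ne_zero.2 ha1)
    have f2 : c 1 + (a ^ 2 + 1) * c 2 = 0 := by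
      have : (a ^ 2 - 1) * (c 1 + (a ^ 2 + 1) * c 2) = 0 := by linear_combination e2 - e0
      exact (mul_eq_zero.1 this).resolve_left (sub_ne_zero.2 ha2)
    have f3 : c 2 = 0 := by
      have : a * ((a - 1) * c 2) = 0 := by linear_combination f2 - f1
      exact (mul_eq_zero.1 ((mul_eq_zero.1 this).resolve_left ha0)).resolve_left (sub_ne_zero.2 ha1)
    have f4 : c 1 = 0 := by
      rw [f3, mul_zero, add_zero] at f1
      exact f1
    have f5 : c 0 = 0 := by
      rw [f3, f4] at e0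
      simpa using e0
    intro i
    fin_cases i
    · exact f5
    · exact f4
    · exact f3
  have h3 := finrank_span_eq_card hli
  rw [Fintype.card_fin] at h3
  unfold blockRank
  rw [← h3]
  refine Submodule.finrank_mono (Submodule.span_mono ?_)
  rintro _ ⟨i, rfl⟩
  exact ⟨lin (μ ^ (i : ℕ)), hB _, rfl⟩

/-- a nontrivial linear character and a 2-regular element -/
theorem exists_lin {S : Subgroup G} (hS : S.Normal) (ho : Odd S.index) (h1 : S.index ≠ 1) :
    ∃ (μ : G →* ℂˣ) (y : G), ¬ 2 ∣ orderOf y ∧ μ y ≠ 1 := by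
  have hcard : Odd (Nat.card (G ⧸ S)) := ho
  have hsol : Group.IsSolvable (G ⧸ S) := Cfsg.Agent.S0205.result hcard
  have hnt : Nontrivial (G ⧸ S) := by
    rw [← Finite.one_lt_card_iff_nontrivial]
    have h2 : Nat.card (G ⧸ S) ≠ 1 := h1
    have h3 : 0 < Nat.card (G ⧸ S) := Nat.card_pos
    omega
  have hlt : commutator (G ⧸ S) < ⊤ := Group.IsSolvable.commutator_lt_top_of_nontrivial (G ⧸ S)
  obtain ⟨q, -, hq⟩ := SetLike.exists_of_lt hlt
  have ha : (Abelianization.of q : Abelianization (G ⧸ S)) ≠ 1 := by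
    intro h
    apply hq
    rw [← Abelianization.ker_of]
    exact h
  obtain ⟨φ, hφ⟩ := CommGroup.exists_apply_ne_one_of_hasEnoughRootsOfUnity (Abelianization (G ⧸ S)) ℂ ha
  obtain ⟨g, rfl⟩ := QuotientGroup.mk_surjective q
  let μ : G →* ℂˣ := (φ.comp Abelianization.of).comp (QuotientGroup.mk' S)
  have hμ : μ g ≠ 1 := hφ
  obtain ⟨k, m, hm, hkm⟩ := Nat.exists_eq_pow_mul_and_not_dvd (orderOf_pos g).ne' 2 (by norm_num)
  refine ⟨μ, g ^ 2 ^ k, ?_, ?_⟩
  · rw [orderOf_pow' g (by positivity), hkm, Nat.gcd_eq_right (Dvd.intro _ rfl),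
      Nat.mul_div_cancel_left _ (by positivity)]
    exact hm
  · intro h2
    rw [map_pow] at h2
    have h3 : orderOf (μ g) ∣ 2 ^ k := orderOf_dvd_of_pow_eq_one h2
    have h4 : orderOf (μ g) ∣ Nat.card (G ⧸ S) := by
      have h5 : orderOf (μ g) ∣ orderOf (QuotientGroup.mk g : G ⧸ S) :=
        orderOf_map_dvd (φ.comp Abelianization.of) (QuotientGroup.mk g : G ⧸ S)
      exact h5.trans (orderOf_dvd_natCard _)
    have h6 : Nat.Coprime (2 ^ k) (Nat.card (G ⧸ S)) :=
      Nat.Coprime.pow_left k (Nat.coprime_two_left.2 hcard)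
    have h7 : orderOf (μ g) ∣ 1 := by
      rw [← h6.gcd_eq_one]
      exact Nat.dvd_gcd h3 h4
    exact hμ (orderOf_eq_one_iff.1 (Nat.dvd_one.1 h7))

end rank

/-! ### the group -/

section group

variable {F : Type} [Field F] [Fintype F]

/-- a rigid Sylow 2-subgroup -/
theorem exists_rigid (hF : Fintype.card F = 4) :
    ∃ U : Subgroup (Matrix.ProjectiveSpecialLinearGroup (Fin 3) F), IsPGroup 2 U ∧ Rigid 2 U ∧ ¬ 2 ∣ U.index := by
  have : Fact (Nat.Prime 2) := ⟨Nat.prime_two⟩
  have hch := Cfsg.Agent.H686.TZ.PSL34.charP_two hF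
  have hW : Finite (Cfsg.Agent.LieRecognition.BNCox.cA 2).Group :=
    Nodes.RootsA.finite_W (Cfsg.Agent.LieRecognition.BNCox.cA 2).toCoxeterSystem (Nodes.RootsA.isCartan 2)
  have R := Nodes.RGDTypeA.rgd_psl (F := F) (p := 2) (n := 2)
    (Cfsg.Agent.LieRecognition.BNCox.cA 2).toCoxeterSystem (Nodes.RootsA.isCartan 2)
  have hX := Nodes.RGDTypeA.G1_psl_eq_top (F := F) (n := 2)
    (Cfsg.Agent.LieRecognition.BNCox.cA 2).toCoxeterSystem (Nodes.RootsA.isCartan 2)
  refine ⟨_, R.isPGroup_Upos, ?_, ?_⟩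
  · intro α hα k hk hαk
    exact H684.RgdData.eq_one_of_fix_U R hX hα hk hαk
  · have h1 := KFacts.RgdSyl.not_dvd_relIndex R
    rwa [KFacts.RgdRigid.GG_eq_top hX, Subgroup.relIndex_top_right] at h1

theorem cent_two (hF : Fintype.card F = 4) {L : Type*} [Group L]
    (e : L ≃* Matrix.ProjectiveSpecialLinearGroup (Fin 3) F) {z : L} (hz : orderOf z = 2) :
    IsPGroup 2 (centralizer ({z} : Set L)) := by
  obtain ⟨f⟩ := SporadicA.FieldFour.nonempty_psl_equiv (n := Fin 3) F hF
  refine UGT.ThEP.p2 (f.trans e.symm) z ?_ ?_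
  · rw [← pow_two, ← hz, pow_orderOf_eq_one]
  · rintro rfl
    rw [orderOf_one] at hz
    norm_num at hz

end group

section main

variable {G : Type u} [Group G] [Finite G] {M : Ideal AlgInt}

theorem el_of {x : G} {n : ℕ} (h : orderOf x = 2 ^ n) (hn : n ≠ 0) : El x := by
  refine ⟨⟨n, h⟩, ?_⟩
  rintro rfl
  rw [orderOf_one] at h
  have h2 : 1 < 2 ^ n := Nat.one_lt_two_pow hn
  omega

/-- the case `G = S` -/
theorem row_self (hM : IsPModular 2 M) (h5 : Five M G) {F : Type} [Field F] [Fintype F] (hF : Fintype.card F = 4)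
    (e : G ≃* Matrix.ProjectiveSpecialLinearGroup (Fin 3) F) : False := by
  classical
  have hch := Cfsg.Agent.H686.TZ.PSL34.charP_two hF
  have : Fact (Nat.Prime 2) := ⟨Nat.prime_two⟩
  obtain ⟨w, hw1, hw0, hw3, -⟩ := Cfsg.Agent.H93.LThreeFour.exists_omega hF
  have hw2 : w ^ 2 ≠ 1 := by
    intro h2
    apply hw1
    linear_combination hw3 - w * h2
  have hw12 : w ^ 2 ≠ w := by
    intro h2
    apply hw1
    have : w * (w - 1) = 0 := by linear_combination h2
    exact sub_eq_zero.1 ((mul_eq_zero.1 this).resolve_left hw0)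
  let b : Fin 3 → F := ![1, w, w ^ 2]
  have hb0 : ∀ i, b i ≠ 0 := by
    intro i
    fin_cases i
    · exact one_ne_zero
    · exact hw0
    · exact pow_ne_zero 2 hw0
  have hb : Function.Injective b := by
    intro i j hij
    fin_cases i <;> fin_cases j <;> first | rfl | exfalso
    · exact hw1 (Eq.symm hij)
    · exact hw2 (Eq.symm hij)
    · exact hw1 hij
    · exact hw12 (Eq.symm hij)
    · exact hw2 hij
    · exact hw12 hij
  let x : Fin 4 → Matrix.ProjectiveSpecialLinearGroup (Fin 3) F :=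
    Fin.cons (QuotientGroup.mk (Cfsg.Agent.H686.TZ.PSL3.W 1))
      (fun i => QuotientGroup.mk (Cfsg.Agent.H93.LThreeFour.jj (b i)))
  have o0 : orderOf (x 0) = 2 := Cfsg.Agent.H686.TZ.PSL3.orderOf_W_one (F := F) (p := 2)
  have o1 : ∀ i : Fin 3, orderOf (x i.succ) = 4 := fun i => Cfsg.Agent.H686.TZ.PSL34.orderOf_jj (hb0 i)
  have hx : ∀ i j, IsConj (x i) (x j) → i = j := by
    intro i j hij
    have ho : orderOf (x i) = orderOf (x j) := by
      obtain ⟨c, hc⟩ := isConj_iff.1 hij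
      rw [← hc]
      exact ((MulAut.conj c).orderOf_eq (x i)).symm
    refine Fin.cases ?_ ?_ i hij ho
    · refine Fin.cases ?_ ?_ j
      · intro _ _
        rfl
      · intro k _ h
        rw [o0, o1] at h
        omega
    · intro k
      refine Fin.cases ?_ ?_ j
      · intro _ h
        rw [o0, o1] at h
        omega
      · intro l h _
        rw [hb (Cfsg.Agent.H686.TZ.PSL34.jj_inj' hF (hb0 k) h)]
  let f : Fin 4 → G := fun i => e.symm (x i)
  have hf : ∀ i j, IsConj (f i) (f j) → i = j := by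
    intro i j hij
    apply hx
    obtain ⟨c, hc⟩ := isConj_iff.1 hij
    refine isConj_iff.2 ⟨e c, ?_⟩
    apply e.symm.injective
    rw [map_mul, map_mul, map_inv, e.symm_apply_apply]
    exact hc
  have hinj : Function.Injective f := fun i j h => hf i j (h ▸ IsConj.refl _)
  have h1 := h5.sum_wt_le hM (Finset.univ.map ⟨f, hinj⟩) (by
    intro y hy
    obtain ⟨i, -, rfl⟩ := Finset.mem_map.1 hy
    show El (e.symm (x i))
    refine Fin.cases ?_ ?_ i
    · exact el_of (n := 1) (by rw [MulEquiv.orderOf_eq, o0, pow_one]) one_ne_zero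
    · intro k
      exact el_of (n := 2) (by rw [MulEquiv.orderOf_eq, o1]; norm_num) two_ne_zero) (by
    intro y hy y' hy' hc
    obtain ⟨i, -, rfl⟩ := Finset.mem_map.1 hy
    obtain ⟨j, -, rfl⟩ := Finset.mem_map.1 hy'
    show f i = f j
    rw [hf i j hc])
  rw [Finset.sum_map] at h1
  have h2 : ∑ _i : Fin 4, 1 ≤ ∑ i : Fin 4, wt (f i) := Finset.sum_le_sum fun i _ => one_le_wt _
  rw [Finset.sum_const, Finset.card_univ, Fintype.card_fin] at h2
  have h3 : ∑ i : Fin 4, wt (f i) ≤ 3 := h1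
  simp only [smul_eq_mul] at h2
  omega

/-- **The row `L₃(4)`.** -/
theorem row_l34 {S : Subgroup G} (h : Sit M G S) (e : IsL34 S) : False := by
  classical
  have hM := h.modular
  have h5 := h.five
  have hn := h.normal
  have : Fact (Nat.Prime 2) := ⟨Nat.prime_two⟩
  obtain ⟨F, _, _, hF, ⟨e⟩⟩ := e
  by_cases hidx : S.index = 1
  · have hS : S = ⊤ := index_eq_one.1 hidx
    exact row_self hM h5 hF ((Subgroup.topEquiv.symm.trans (MulEquiv.subgroupCongr hS.symm)).trans e)
  obtain ⟨U, hU, hR, hUi⟩ := exists_rigid hF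
  set U' : Subgroup S := U.map e.symm.toMonoidHom with hU'
  have hU2 : IsPGroup 2 U' := hU.map _
  have hR' : Rigid 2 U' := hR.map e.symm
  set V : Subgroup G := U'.map S.subtype with hV
  have hVS : V ≤ S := Subgroup.map_subtype_le U'
  have hV2 : IsPGroup 2 V := hU2.map _
  have hVU : V.subgroupOf S = U' := by
    rw [hV]
    exact Subgroup.comap_map_eq_self_of_injective S.subtype_injective U'
  have hC2 : IsPGroup 2 (centralizer (V : Set G)) :=
    H684.DefChar.isPGroup_centralizer h.cent (by rw [hVU]; exact hR')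
  -- `V ≠ 1`
  have hU1 : U ≠ ⊥ := by
    rintro rfl
    rw [index_bot, Cfsg.Agent.H686.TZ.PSL34.card_four hF] at hUi
    exact hUi (by norm_num)
  have hV1 : V ≠ ⊥ := by
    intro hb
    apply hU1
    rw [hV, Subgroup.map_eq_bot_iff_of_injective _ S.subtype_injective, hU',
      Subgroup.map_eq_bot_iff_of_injective _ e.symm.injective] at hb
    exact hb
  have hVnt : Nontrivial V := (Subgroup.nontrivial_iff_ne_bot V).2 hV1
  have hcz := hV2.center_nontrivial
  have h2c : 2 ∣ Nat.card (center V) := by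
    obtain ⟨n, hn⟩ := IsPGroup.iff_card.1 (hV2.to_subgroup (center V))
    have h3 : 1 < Nat.card (center V) := Finite.one_lt_card_iff_nontrivial.2 hcz
    rw [hn]
    refine dvd_pow_self 2 ?_
    rintro rfl
    rw [hn] at h3
    norm_num at h3
  obtain ⟨z0, hz0⟩ := exists_prime_orderOf_dvd_card' (G := center V) 2 h2c
  set z : G := ((z0 : V) : G) with hz
  have hzo : orderOf z = 2 := by rw [hz, orderOf_coe, orderOf_coe, hz0]
  have hzV : z ∈ V := (z0 : V).2
  have hzS : z ∈ S := hVS hzV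
  have hzc : ∀ v ∈ V, v * z = z * v := by
    intro v hv
    exact congrArg Subtype.val (mem_center_iff.1 z0.2 ⟨v, hv⟩)
  -- the centralizer of `z` in `S`
  have hzo' : orderOf (⟨z, hzS⟩ : S) = 2 := by rw [← orderOf_coe]; exact hzo
  have hcS := cent_two hF e hzo'
  have hcS' : ∀ c : G, c ∈ S → c * z = z * c → ∃ n : ℕ, c ^ 2 ^ n = 1 := by
    intro c hc hcz
    have h1 : (⟨c, hc⟩ : S) ∈ centralizer ({(⟨z, hzS⟩ : S)} : Set S) := by
      rw [mem_centralizer_singleton_iff]
      exact Subtype.ext hcz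
    obtain ⟨n, hn⟩ := hcS ⟨_, h1⟩
    refine ⟨n, ?_⟩
    have h2 := congrArg (fun t : ↥(centralizer ({(⟨z, hzS⟩ : S)} : Set S)) => ((t : S) : G)) hn
    simpa using h2
  -- `C_G(z)` is not 2-nilpotent
  have hwz : ¬ HasNormalPComplement 2 ↥(centralizer ({z} : Set G)) := by
    rintro ⟨P, K, hKn, hK⟩
    have hKodd : ¬ 2 ∣ Nat.card K := by
      have h1 := hK.card_mul_card
      have h2 := (P : Subgroup ↥(centralizer ({z} : Set G))).card_mul_index
      have h3 : (P : Subgroup ↥(centralizer ({z} : Set G))).index = Nat.card K := by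
        apply Nat.eq_of_mul_eq_mul_left (Nat.card_pos (α := (P : Subgroup ↥(centralizer ({z} : Set G)))))
        rw [h2, ← h1, mul_comm]
      rw [← h3]
      exact P.not_dvd_index
    have hodd1 : ∀ c : ↥(centralizer ({z} : Set G)), c ∈ K → (∃ n : ℕ, (c : G) ^ 2 ^ n = 1) → c = 1 := by
      rintro c hc ⟨n, hn⟩
      have h1 : orderOf c ∣ 2 ^ n := orderOf_dvd_of_pow_eq_one (Subtype.ext (by simpa using hn))
      have h2 : orderOf c ∣ Nat.card K := by
        have := orderOf_dvd_natCard (⟨c, hc⟩ : K)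
        rwa [← orderOf_coe] at this
      have h3 : Nat.Coprime (2 ^ n) (Nat.card K) :=
        Nat.Coprime.pow_left n ((Nat.Prime.coprime_iff_not_dvd Nat.prime_two).2 hKodd)
      have h4 : orderOf c ∣ 1 := by
        rw [← h3.gcd_eq_one]
        exact Nat.dvd_gcd h1 h2
      exact orderOf_eq_one_iff.1 (Nat.dvd_one.1 h4)
    have hK1 : ∀ k : ↥(centralizer ({z} : Set G)), k ∈ K → k = 1 := by
      intro k hk
      have hkV : (k : G) ∈ centralizer (V : Set G) := by
        rw [mem_centralizer_iff]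
        intro v hv
        have hvC : v ∈ centralizer ({z} : Set G) := mem_centralizer_singleton_iff.2 (hzc v hv)
        have hcK : k * ⟨v, hvC⟩ * k⁻¹ * ⟨v, hvC⟩⁻¹ ∈ K := by
          have h1 := hKn.conj_mem k⁻¹ (K.inv_mem hk) ⟨v, hvC⟩
          have h2 := K.mul_mem hk h1
          rwa [show k * (⟨v, hvC⟩ * k⁻¹ * ⟨v, hvC⟩⁻¹) = k * ⟨v, hvC⟩ * k⁻¹ * ⟨v, hvC⟩⁻¹ by group] at h2
        have hcSm : (k : G) * v * (k : G)⁻¹ * v⁻¹ ∈ S :=
          S.mul_mem (hn.conj_mem v (hVS hv) k) (S.inv_mem (hVS hv))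
        have h3 := hodd1 _ hcK (hcS' _ hcSm (mem_centralizer_singleton_iff.1
          (k * ⟨v, hvC⟩ * k⁻¹ * ⟨v, hvC⟩⁻¹).2))
        have h4 : (k : G) * v * (k : G)⁻¹ * v⁻¹ = 1 := congrArg Subtype.val h3
        have h5 : (k : G) * v * (k : G)⁻¹ = v := mul_inv_eq_one.1 h4
        exact (mul_inv_eq_iff_eq_mul.1 h5).symm
      obtain ⟨n, hn⟩ := hC2 ⟨(k : G), hkV⟩
      exact hodd1 k hk ⟨n, by simpa using congrArg Subtype.val hn⟩
    have hCp : ∀ c : ↥(centralizer ({z} : Set G)), ∃ n : ℕ, c ^ 2 ^ n = 1 := by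
      have h1 : K = ⊥ := (Subgroup.eq_bot_iff_forall K).2 hK1
      have h2 := hK.card_mul_card
      rw [h1, Subgroup.card_bot, one_mul] at h2
      obtain ⟨n, hn⟩ := IsPGroup.iff_card.1 P.isPGroup'
      intro c
      refine ⟨n, ?_⟩
      rw [← hn, h2]
      exact pow_card_eq_one'
    have hQ : IsPGroup 2 (G ⧸ S) := by
      intro q
      obtain ⟨g, rfl⟩ := QuotientGroup.mk_surjective q
      have hgz : g * z * g⁻¹ ∈ S := hn.conj_mem z hzS g
      have ho : orderOf (⟨g * z * g⁻¹, hgz⟩ : S) = 2 := by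
        rw [← orderOf_coe]
        show orderOf (g * z * g⁻¹) = 2
        rw [← hzo]
        exact (MulAut.conj g).orderOf_eq z
      have hcl := (Cfsg.Agent.H686.TZ.PSL34.classes hF).1 (e ⟨z, hzS⟩) (e ⟨g * z * g⁻¹, hgz⟩)
        (by rw [MulEquiv.orderOf_eq, hzo']) (by rw [MulEquiv.orderOf_eq, ho])
      obtain ⟨t, ht⟩ := isConj_iff.1 hcl
      have hs : ((e.symm t : S) : G) * z * ((e.symm t : S) : G)⁻¹ = g * z * g⁻¹ := by
        have h1 : e.symm t * ⟨z, hzS⟩ * (e.symm t)⁻¹ = (⟨g * z * g⁻¹, hgz⟩ : S) := by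
          apply e.injective
          rw [map_mul, map_mul, map_inv, e.apply_symm_apply]
          exact ht
        exact congrArg Subtype.val h1
      set s : G := ((e.symm t : S) : G) with hsd
      have hsS : s ∈ S := (e.symm t).2
      have hc : s⁻¹ * g ∈ centralizer ({z} : Set G) := by
        rw [mem_centralizer_singleton_iff]
        have h1 : s⁻¹ * (g * z * g⁻¹) * s = z := by rw [← hs]; group
        calc s⁻¹ * g * z = s⁻¹ * (g * z * g⁻¹) * s * (s⁻¹ * g) := by group
          _ = z * (s⁻¹ * g) := by rw [h1]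
      obtain ⟨n, hn'⟩ := hCp ⟨_, hc⟩
      refine ⟨n, ?_⟩
      have h2 : (QuotientGroup.mk g : G ⧸ S) = QuotientGroup.mk (s⁻¹ * g) := by
        rw [QuotientGroup.mk_mul, (QuotientGroup.eq_one_iff s⁻¹).2 (S.inv_mem hsS), one_mul]
      rw [h2, ← QuotientGroup.mk_pow]
      have h3 : (s⁻¹ * g) ^ 2 ^ n = 1 := by simpa using congrArg Subtype.val hn'
      rw [h3]
      rfl
    obtain ⟨n, hn'⟩ := IsPGroup.iff_card.1 hQ
    have h6 : Odd (2 ^ n) := by rw [← hn']; exact h.odd
    have h7 : n = 0 := by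
      by_contra hne
      exact (Nat.not_odd_iff_even.2 ((Nat.even_pow' hne).2 even_two)) h6
    apply hidx
    show Nat.card (G ⧸ S) = 1
    rw [hn', h7, pow_zero]
  -- an element of order 4
  have hch := Cfsg.Agent.H686.TZ.PSL34.charP_two hF
  set x : G := ((e.symm (QuotientGroup.mk (Cfsg.Agent.H93.LThreeFour.jj 1)) : S) : G) with hx
  have hxo : orderOf x = 4 := by
    rw [hx, orderOf_coe, MulEquiv.orderOf_eq]
    exact Cfsg.Agent.H686.TZ.PSL34.orderOf_jj one_ne_zero
  -- linear characters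
  obtain ⟨μ, y, hy, hμ⟩ := exists_lin hn h.odd hidx
  have hr3 : 3 ≤ blockRank 2 (principalBlock M G) := by
    refine three_le_rank (fun μ' => ?_) μ y hy hμ
    refine H684.Principal.mem_of_not_dvd hM hV2 hC2 _ ?_
    rw [charDegree_lin]
    norm_num
  have ho : ∀ a b : G, IsConj a b → orderOf a = orderOf b := by
    intro a b hab
    obtain ⟨c, hc⟩ := isConj_iff.1 hab
    rw [← hc]
    exact ((MulAut.conj c).orderOf_eq a).symm
  have h1z : (1 : G) ≠ z := by
    intro h
    rw [← h, orderOf_one] at hzo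
    norm_num at hzo
  have h1x : (1 : G) ≠ x := by
    intro h
    rw [← h, orderOf_one] at hxo
    norm_num at hxo
  have hzx : z ≠ x := by
    intro h
    rw [h, hxo] at hzo
    norm_num at hzo
  have key := TwoA.sum_rank_le (p := 2) (G := G) hM {1, z, x}
    (by
      intro t ht
      simp only [Finset.mem_insert, Finset.mem_singleton] at ht
      rcases ht with rfl | rfl | rfl
      · exact ⟨0, by simp⟩
      · exact ⟨1, by rw [hzo, pow_one]⟩
      · exact ⟨2, by rw [hxo]; norm_num⟩)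
    (by
      intro a ha b hb hab
      have h1 := ho a b hab
      simp only [Finset.mem_insert, Finset.mem_singleton] at ha hb
      rcases ha with rfl | rfl | rfl <;> rcases hb with rfl | rfl | rfl
      · rfl
      · rw [orderOf_one, hzo] at h1; omega
      · rw [orderOf_one, hxo] at h1; omega
      · rw [orderOf_one, hzo] at h1; omega
      · rfl
      · rw [hzo, hxo] at h1; omega
      · rw [orderOf_one, hxo] at h1; omega
      · rw [hzo, hxo] at h1; omega
      · rfl)
  rw [Finset.sum_insert (by simp only [Finset.mem_insert, Finset.mem_singleton, not_or]; exact ⟨h1z, h1x⟩),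
    Finset.sum_insert (by rw [Finset.mem_singleton]; exact hzx), Finset.sum_singleton, TwoA.rank_one_eq hM,
    h5.card] at key
  have k1 := wt_le_rank hM z
  have k2 := wt_le_rank hM x
  have k3 := one_le_wt x
  rw [wt_eq_two hwz] at k1
  omega

end main

end Cfsg.Agent.H333.K5.L34
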